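import Groth.Agent.PSLib.Basic
import Groth.Agent.ArSingLib.Repr

/-!
# Power series in two variables: coordinates, smooth germs, square roots
-/

set_option autoImplicit false

universe u

open Finsupp

namespace Groth.Agent.ZH85.PlaneSing

variable {k : Type u} [Field k]

local notation "P" => MvPowerSeries (Fin 2) k
local notation "cst" => MvPowerSeries.constantCoeff (σ := Fin 2) (R := k)

/-- The coefficient of a variable. -/
noncomputable def lin (i : Fin 2) (F : P) : k := MvPowerSeries.coeff (single i 1) F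

theorem lin_eq (i : Fin 2) (F : P) : lin i F = cst (MvPowerSeries.pderiv k i F) := by
  rw [lin, ← MvPowerSeries.coeff_zero_eq_constantCoeff_apply, MvPowerSeries.coeff_pderiv]
  simp

theorem lin_mul (i : Fin 2) (F G : P) : lin i (F * G) = cst F * lin i G + cst G * lin i F := by
  simp only [lin_eq, Derivation.leibniz, map_add, smul_eq_mul, map_mul]

@[simp] theorem lin_add (i : Fin 2) (F G : P) : lin i (F + G) = lin i F + lin i G := map_add _ _ _

@[simp] theorem lin_sub (i : Fin 2) (F G : P) : lin i (F - G) = lin i F - lin i G := map_sub _ _ _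

@[simp] theorem lin_zero (i : Fin 2) : lin i (0 : P) = 0 := map_zero _

@[simp] theorem lin_C (i : Fin 2) (a : k) : lin i (MvPowerSeries.C a : P) = 0 := by
  simp [lin_eq]

@[simp] theorem lin_X (i j : Fin 2) : lin i (MvPowerSeries.X j : P) = if i = j then 1 else 0 := by
  classical
  rw [lin_eq, MvPowerSeries.pderiv_X]
  by_cases h : i = j
  · subst h; simp
  · simp [h, Ne.symm h]

theorem exists_decomp (F : P) : ∃ G H : P, F = MvPowerSeries.C (cst F) + MvPowerSeries.X 0 * G +
    MvPowerSeries.X 1 * H ∧ cst G = lin 0 F ∧ cst H = lin 1 F := by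
  obtain ⟨G, H, h⟩ := ArSingLib.mv_decomp F
  refine ⟨G, H, h, ?_, ?_⟩ <;>
  · conv_rhs => rw [h]
    simp [lin_mul]

theorem mem_vars_sq {F : P} (h0 : cst F = 0) (hl : ∀ i, lin i F = 0) : F ∈ PSLib.vars 2 k ^ 2 := by
  obtain ⟨G, H, h, hG, hH⟩ := exists_decomp F
  rw [h, h0, map_zero, zero_add, sq]
  exact add_mem (Ideal.mul_mem_mul (PSLib.mem_vars_iff.2 (by simp)) (PSLib.mem_vars_iff.2 (hG.trans (hl 0))))
    (Ideal.mul_mem_mul (PSLib.mem_vars_iff.2 (by simp)) (PSLib.mem_vars_iff.2 (hH.trans (hl 1))))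

/-- Coordinates. -/
theorem exists_aut (A B : P) (hA : cst A = 0) (hB : cst B = 0)
    (hdet : lin 0 A * lin 1 B - lin 1 A * lin 0 B ≠ 0) :
    ∃ φ : P ≃ₐ[k] P, φ (MvPowerSeries.X 0) = A ∧ φ (MvPowerSeries.X 1) = B := by
  have hs : MvPowerSeries.HasSubst ![A, B] := MvPowerSeries.hasSubst_of_constantCoeff_zero fun i => by
    fin_cases i
    · exact hA
    · exact hB
  have h0 : (MvPowerSeries.substAlgHom hs : P →ₐ[k] P) (MvPowerSeries.X 0) = A := by
    simp [MvPowerSeries.subst_X hs]
  have h1 : (MvPowerSeries.substAlgHom hs : P →ₐ[k] P) (MvPowerSeries.X 1) = B := by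
    simp [MvPowerSeries.subst_X hs]
  refine ⟨AlgEquiv.ofBijective _ (PSLib.bijective_of_first_order (MvPowerSeries.substAlgHom hs : P →ₐ[k] P)
    (fun i => ?_) fun j => ?_), h0, h1⟩
  · fin_cases i
    · exact PSLib.mem_vars_iff.2 ((congrArg cst h0).trans hA)
    · exact PSLib.mem_vars_iff.2 ((congrArg cst h1).trans hB)
  · set d := lin 0 A * lin 1 B - lin 1 A * lin 0 B
    obtain ⟨p, q, hp, hq⟩ : ∃ p q : k, (p * lin 0 A + q * lin 0 B = if (0 : Fin 2) = j then 1 else 0) ∧
        (p * lin 1 A + q * lin 1 B = if (1 : Fin 2) = j then 1 else 0) := by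
      fin_cases j
      · refine ⟨lin 1 B / d, -lin 1 A / d, ?_, ?_⟩
        · simp only [Fin.zero_eta, if_true]
          field_simp
          ring
        · simp only [Fin.zero_eta, if_neg one_ne_zero]
          field_simp
          ring
      · refine ⟨-lin 0 B / d, lin 0 A / d, ?_, ?_⟩
        · simp only [Fin.mk_one, if_neg zero_ne_one]
          field_simp
          ring
        · simp only [Fin.mk_one, if_true]
          field_simp
          ring
    rw [show (MvPowerSeries.X j : P) = (MvPowerSeries.C p * A + MvPowerSeries.C q * B) +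
      (MvPowerSeries.X j - MvPowerSeries.C p * A - MvPowerSeries.C q * B) by ring]
    refine Submodule.add_mem_sup ?_ (mem_vars_sq (by simp [hA, hB]) fun i => ?_)
    · exact add_mem (Ideal.mul_mem_left _ _ (Ideal.subset_span ⟨0, h0⟩))
        (Ideal.mul_mem_left _ _ (Ideal.subset_span ⟨1, h1⟩))
    · fin_cases i
      · simp [lin_mul, hA, hB]
        linear_combination -hp
      · simp [lin_mul, hA, hB]
        linear_combination -hq

/-- A smooth germ is a coordinate. -/
theorem exists_aut_of_lin {L : P} (h0 : cst L = 0) (hl : ∃ i, lin i L ≠ 0) :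
    ∃ φ : P ≃ₐ[k] P, φ (MvPowerSeries.X 1) = L := by
  by_cases h1 : lin 1 L = 0
  · obtain ⟨i, hi⟩ := hl
    obtain rfl : i = 0 := by
      fin_cases i
      · rfl
      · exact absurd h1 hi
    obtain ⟨φ, -, h⟩ := exists_aut (MvPowerSeries.X 1) L (by simp) h0 (by simpa using hi)
    exact ⟨φ, h⟩
  · obtain ⟨φ, -, h⟩ := exists_aut (MvPowerSeries.X 0) L (by simp) h0 (by simpa using h1)
    exact ⟨φ, h⟩

/-- Restriction to the axis `X₀ = 0`. -/
noncomputable def axis : P →+* PowerSeries k where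
  toFun f := PowerSeries.mk fun n => MvPowerSeries.coeff (single 1 n) f
  map_one' := by
    classical
    ext n
    simp only [PowerSeries.coeff_mk, PowerSeries.coeff_one, MvPowerSeries.coeff_one,
      Finsupp.single_eq_zero]
  map_mul' f g := by
    classical
    ext n
    simp only [PowerSeries.coeff_mk, MvPowerSeries.coeff_mul, PowerSeries.coeff_mul,
      Finsupp.antidiagonal_single, Finset.sum_map]
    rfl
  map_zero' := by ext n; simp
  map_add' f g := by ext n; simp

theorem coeff_axis (F : P) (n : ℕ) :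
    PowerSeries.coeff n (axis F) = MvPowerSeries.coeff (single 1 n) F := by
  simp [axis]

theorem axis_eq_zero_iff {F : P} : axis F = 0 ↔ (MvPowerSeries.X 0 : P) ∣ F := by
  rw [MvPowerSeries.X_dvd_iff]
  refine ⟨fun h m hm => ?_, fun h => PowerSeries.ext fun n => ?_⟩
  · have hm' : m = single 1 (m 1) := by
      ext i
      fin_cases i
      · simpa using hm
      · simp
    have := congrArg (PowerSeries.coeff (m 1)) h
    rwa [coeff_axis, ← hm', map_zero] at this
  · rw [coeff_axis, map_zero, h _ (by simp)]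

theorem axis_X_one : axis (MvPowerSeries.X 1 : P) = PowerSeries.X := by
  classical
  ext n
  rw [coeff_axis, MvPowerSeries.coeff_X, PowerSeries.coeff_X]
  simp only [(Finsupp.single_injective (1 : Fin 2)).eq_iff]

theorem constantCoeff_axis (F : P) : PowerSeries.constantCoeff (axis F) = cst F := by
  rw [← PowerSeries.coeff_zero_eq_constantCoeff_apply, coeff_axis, Finsupp.single_zero,
    MvPowerSeries.coeff_zero_eq_constantCoeff_apply]

theorem prime_X_zero : Prime (MvPowerSeries.X 0 : P) := by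
  refine ⟨fun h => ?_, fun h => ?_, fun a b h => ?_⟩
  · have := congrArg (lin 0) h
    simp at this
  · simpa using MvPowerSeries.isUnit_iff_constantCoeff.1 h
  · rw [← axis_eq_zero_iff, map_mul, mul_eq_zero, axis_eq_zero_iff, axis_eq_zero_iff] at h
    exact h

theorem prime_of_lin {L : P} (h0 : cst L = 0) (hl : ∃ i, lin i L ≠ 0) : Prime L := by
  obtain ⟨φ, hφ⟩ := exists_aut_of_lin h0 hl
  obtain ⟨ψ, -, hψ⟩ := exists_aut (MvPowerSeries.X 1 : P) (MvPowerSeries.X 0) (by simp) (by simp) (by simp)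
  rw [← hφ]
  refine (MulEquiv.prime_iff φ).2 ?_
  rw [← MulEquiv.prime_iff ψ]
  show Prime (ψ (MvPowerSeries.X 1))
  rw [hψ]
  exact prime_X_zero

/-- The plane germ of `F`. -/
abbrev Germ (F : P) : Type u := P ⧸ Ideal.span ({F} : Set P)

/-- Equal germs up to coordinates. -/
theorem nonempty_germ_equiv (φ : P ≃ₐ[k] P) {F G : P} (h : Associated (φ F) G) :
    Nonempty (Germ F ≃ₐ[k] Germ G) :=
  ⟨Ideal.quotientEquivAlg _ _ φ (by
    rw [Ideal.map_span, Set.image_singleton]
    haveI : IsDomain P := NoZeroDivisors.to_isDomain _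
    exact (Ideal.span_singleton_eq_span_singleton.2 h).symm)⟩

theorem nonempty_germ_X_one {L : P} (h0 : cst L = 0) (hl : ∃ i, lin i L ≠ 0) (m : ℕ) :
    Nonempty (Germ (L ^ m) ≃ₐ[k] Germ ((MvPowerSeries.X 1 : P) ^ m)) := by
  obtain ⟨φ, hφ⟩ := exists_aut_of_lin h0 hl
  refine nonempty_germ_equiv φ.symm ?_
  rw [map_pow, ← hφ, AlgEquiv.symm_apply_apply]

theorem exists_sqrt [IsAlgClosed k] (h2 : (2 : k) ≠ 0) {E : P} (hE : cst E ≠ 0) :
    ∃ w : P, cst w ≠ 0 ∧ w ^ 2 = E := by
  obtain ⟨c, hc⟩ := IsAlgClosed.exists_pow_nat_eq (cst E) two_pos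
  have hc0 : c ≠ 0 := fun h => hE (by rw [← hc, h]; simp)
  obtain ⟨w, hw, -⟩ := HenselianRing.is_henselian (I := PSLib.vars 2 k)
    (Polynomial.X ^ 2 - Polynomial.C E) (Polynomial.monic_X_pow_sub_C E two_ne_zero)
    (MvPowerSeries.C c) (PSLib.mem_vars_iff.2 (by simp [hc])) (by
      refine IsUnit.map _ (MvPowerSeries.isUnit_iff_constantCoeff.2 ?_)
      simpa [Polynomial.derivative_X_pow, MvPowerSeries.constantCoeff_C] using
        mul_ne_zero (show (1 + 1 : k) ≠ 0 by rwa [one_add_one_eq_two]) hc0)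
  rw [Polynomial.IsRoot.def, Polynomial.eval_sub, Polynomial.eval_pow, Polynomial.eval_X,
    Polynomial.eval_C, sub_eq_zero] at hw
  exact ⟨w, fun h => hE (by rw [← hw, map_pow, h, zero_pow two_ne_zero]), hw⟩

/-- Tangent coordinates are preserved by isomorphisms of germs: the images of the variables span. -/
theorem exists_spanning {F G : P} (hF : cst F = 0) (hG : cst G = 0) (e : Germ F ≃ₐ[k] Germ G) :
    ∃ A B : P, cst A = 0 ∧ cst B = 0 ∧
      e (Ideal.Quotient.mk _ A) = Ideal.Quotient.mk _ (MvPowerSeries.X 0) ∧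
      e (Ideal.Quotient.mk _ B) = Ideal.Quotient.mk _ (MvPowerSeries.X 1) ∧
      ∀ j, ∃ p q r : P, MvPowerSeries.X j = p * A + q * B + r * F := by
  have hnu : ∀ {F : P}, cst F = 0 → ∀ A, IsUnit (Ideal.Quotient.mk (Ideal.span {F}) A) → cst A ≠ 0 := by
    intro F hF A hA h0
    obtain ⟨u, hu⟩ := hA.exists_right_inv
    obtain ⟨v, rfl⟩ := Ideal.Quotient.mk_surjective u
    rw [← map_mul, ← map_one (Ideal.Quotient.mk (Ideal.span {F})), Ideal.Quotient.eq,
      Ideal.mem_span_singleton'] at hu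
    obtain ⟨c, hc⟩ := hu
    have := congrArg cst hc
    simp [hF, h0] at this
  have hlocal : ∀ {F G : P}, cst F = 0 → cst G = 0 → ∀ (e : Germ F ≃ₐ[k] Germ G) (A B : P),
      e (Ideal.Quotient.mk _ A) = Ideal.Quotient.mk _ B → cst B = 0 → cst A = 0 := by
    intro F G hF hG e A B h hB
    by_contra hA
    have h1 : IsUnit (Ideal.Quotient.mk (Ideal.span {G}) B) := by
      rw [← h]
      exact ((MvPowerSeries.isUnit_iff_constantCoeff.2 (isUnit_iff_ne_zero.2 hA)).map _).map e
    exact hnu hG B h1 hB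
  obtain ⟨A, hA⟩ := Ideal.Quotient.mk_surjective (e.symm (Ideal.Quotient.mk _ (MvPowerSeries.X 0)))
  obtain ⟨B, hB⟩ := Ideal.Quotient.mk_surjective (e.symm (Ideal.Quotient.mk _ (MvPowerSeries.X 1)))
  have hA' : e (Ideal.Quotient.mk _ A) = Ideal.Quotient.mk _ (MvPowerSeries.X 0) := by
    rw [hA, e.apply_symm_apply]
  have hB' : e (Ideal.Quotient.mk _ B) = Ideal.Quotient.mk _ (MvPowerSeries.X 1) := by
    rw [hB, e.apply_symm_apply]
  refine ⟨A, B, hlocal hF hG e A _ hA' (by simp), hlocal hF hG e B _ hB' (by simp), hA', hB', fun j => ?_⟩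
  obtain ⟨Y, hY⟩ := Ideal.Quotient.mk_surjective (e (Ideal.Quotient.mk _ (MvPowerSeries.X j)))
  have hY0 : cst Y = 0 := hlocal hG hF e.symm Y _ (by rw [hY, e.symm_apply_apply]) (by simp)
  obtain ⟨G', H', hGH, -, -⟩ := exists_decomp Y
  obtain ⟨p, hp⟩ := Ideal.Quotient.mk_surjective (e.symm (Ideal.Quotient.mk _ G'))
  obtain ⟨q, hq⟩ := Ideal.Quotient.mk_surjective (e.symm (Ideal.Quotient.mk _ H'))
  have hmem : MvPowerSeries.X j - (p * A + q * B) ∈ Ideal.span ({F} : Set P) := by
    rw [← Ideal.Quotient.eq]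
    apply e.injective
    rw [← hY, hGH, hY0, map_zero, zero_add]
    simp only [map_add, map_mul, hA', hB', hp, hq, e.apply_symm_apply]
    ring
  obtain ⟨r, hr⟩ := Ideal.mem_span_singleton'.1 hmem
  exact ⟨p, q, r, by rw [hr]; ring⟩

end Groth.Agent.ZH85.PlaneSing
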