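import Groth.Agent.ZH85.PlaneSing.Basic

/-!
# Polynomials recentred at a point, as power series in two variables
-/

set_option autoImplicit false

universe u

open Finsupp

namespace Groth.Agent.ZH85.PlaneSing

variable {k : Type u} [Field k]

local notation "A2" => MvPolynomial (Fin 2) k
local notation "P" => MvPowerSeries (Fin 2) k
local notation "cst" => MvPowerSeries.constantCoeff (σ := Fin 2) (R := k)

/-- Recentre at `a` and view as a power series. -/
noncomputable def tau (a : Fin 2 → k) : A2 →ₐ[k] P :=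
  (MvPolynomial.coeToMvPowerSeries.algHom k).comp
    (MvPolynomial.aeval fun i : Fin 2 => (MvPolynomial.X i + MvPolynomial.C (a i) : A2))

theorem tau_apply (a : Fin 2 → k) (f : A2) :
    tau a f = (MvPolynomial.aeval (fun i : Fin 2 => MvPolynomial.X i + MvPolynomial.C (a i)) f).toMvPowerSeries :=
  rfl

theorem tau_C (a : Fin 2 → k) (c : k) : tau a (MvPolynomial.C c) = MvPowerSeries.C c := by
  rw [← MvPolynomial.algebraMap_eq, AlgHom.commutes, ArSingLib.mv_C_eq]

theorem tau_X (a : Fin 2 → k) (i : Fin 2) :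
    tau a (MvPolynomial.X i) = MvPowerSeries.X i + MvPowerSeries.C (a i) := by
  simp [tau_apply]

theorem constantCoeff_tau (a : Fin 2 → k) (f : A2) : cst (tau a f) = MvPolynomial.eval a f := by
  induction f using MvPolynomial.induction_on with
  | C c => rw [tau_C, MvPowerSeries.constantCoeff_C, MvPolynomial.eval_C]
  | add p q hp hq => simp [hp, hq]
  | mul_X p i hp => simp [hp, tau_X]

theorem pderiv_tau (a : Fin 2 → k) (i : Fin 2) (f : A2) :
    MvPowerSeries.pderiv k i (tau a f) = tau a (MvPolynomial.pderiv i f) := by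
  induction f using MvPolynomial.induction_on with
  | C c => simp [tau_C]
  | add p q hp hq => simp [hp, hq]
  | mul_X p j hp =>
    rw [map_mul, Derivation.leibniz, Derivation.leibniz, smul_eq_mul, smul_eq_mul, smul_eq_mul,
      smul_eq_mul, hp, map_add, map_mul, map_mul, tau_X, map_add, MvPowerSeries.pderiv_C, add_zero,
      MvPowerSeries.pderiv_X, MvPolynomial.pderiv_X]
    by_cases h : i = j
    · subst h; simp
    · simp [h, Ne.symm h]

theorem lin_tau (a : Fin 2 → k) (i : Fin 2) (f : A2) :
    lin i (tau a f) = MvPolynomial.eval a (MvPolynomial.pderiv i f) := by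
  rw [lin_eq, pderiv_tau, constantCoeff_tau]

theorem tau_injective (a : Fin 2 → k) : Function.Injective (tau a) := by
  intro f g h
  have h1 : MvPolynomial.aeval (fun i : Fin 2 => (MvPolynomial.X i + MvPolynomial.C (a i) : A2)) f =
      MvPolynomial.aeval (fun i : Fin 2 => (MvPolynomial.X i + MvPolynomial.C (a i) : A2)) g :=
    MvPolynomial.coe_injective _ _ h
  have h2 : (MvPolynomial.aeval fun i : Fin 2 => (MvPolynomial.X i - MvPolynomial.C (a i) : A2)).comp
      (MvPolynomial.aeval fun i : Fin 2 => (MvPolynomial.X i + MvPolynomial.C (a i) : A2)) = AlgHom.id k A2 := by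
    apply MvPolynomial.algHom_ext
    intro i
    simp [MvPolynomial.algebraMap_eq]
  have h3 := congrArg (MvPolynomial.aeval fun i : Fin 2 => (MvPolynomial.X i - MvPolynomial.C (a i) : A2)) h1
  rw [← AlgHom.comp_apply, ← AlgHom.comp_apply, h2] at h3
  exact h3

/-- Over a perfect field an irreducible polynomial has a non-zero partial derivative. -/
theorem exists_pderiv_ne_zero [PerfectField k] {p : A2} (hp : Irreducible p) :
    ∃ i, MvPolynomial.pderiv i p ≠ 0 := by
  classical
  by_contra! h
  have hc : ∀ m ∈ p.support, ∀ i, ((m i : ℕ) : k) = 0 := fun m hm i => by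
    rcases Nat.eq_zero_or_pos (m i) with h0 | h0
    · rw [h0, Nat.cast_zero]
    have := congrArg (MvPolynomial.coeff (m - single i 1)) (h i)
    rw [MvPolynomial.coeff_pderiv, tsub_add_cancel_of_le (single_le_iff.2 h0), MvPolynomial.coeff_zero,
      mul_eq_zero] at this
    rcases this with h1 | h1
    · exact absurd h1 (MvPolynomial.mem_support_iff.1 hm)
    · rw [show m i = (m - single i 1 : Fin 2 →₀ ℕ) i + 1 by simp; omega]
      push_cast
      exact h1
  obtain ⟨c, hchar⟩ := CharP.exists k
  rcases CharP.char_is_prime_or_zero k c with hprime | h0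
  · haveI := Fact.mk hprime
    haveI : ExpChar k c := ExpChar.prime hprime
    haveI : PerfectRing k c := PerfectField.toPerfectRing c
    let root : A2 := ∑ m ∈ p.support, MvPolynomial.monomial (m.mapRange (· / c) (Nat.zero_div c))
      ((frobeniusEquiv k c).symm (MvPolynomial.coeff m p))
    have hroot : root ^ c = p := by
      conv_rhs => rw [p.as_sum]
      rw [sum_pow_char]
      refine Finset.sum_congr rfl fun m hm => ?_
      rw [MvPolynomial.monomial_pow, frobeniusEquiv_symm_pow_p]
      congr 2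
      ext i
      simp [Finsupp.mapRange_apply]
      exact Nat.mul_div_cancel' ((CharP.cast_eq_zero_iff k c _).1 (hc m hm i))
    have hu : ¬ IsUnit root := fun hu => hp.not_isUnit (hroot ▸ hu.pow c)
    rw [← hroot] at hp
    obtain ⟨e, he⟩ := Nat.exists_eq_add_of_le hprime.two_le
    rcases hp.isUnit_or_isUnit (show root ^ c = root * root ^ (1 + e) by
      rw [← pow_succ', he]; ring) with h1 | h1
    · exact hu h1
    · exact hu ((isUnit_pow_iff (by omega)).1 h1)
  · subst h0
    haveI := CharP.charP_to_charZero k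
    have hsupp : ∀ m ∈ p.support, m = 0 := fun m hm => Finsupp.ext fun i => by
      exact_mod_cast hc m hm i
    have hpC : p = MvPolynomial.C (MvPolynomial.coeff 0 p) := by
      ext m
      rw [MvPolynomial.coeff_C]
      split_ifs with hm
      · rw [← hm]
      · by_contra hne
        exact hm (hsupp m (MvPolynomial.mem_support_iff.2 hne)).symm
    rw [hpC] at hp
    rcases eq_or_ne (MvPolynomial.coeff 0 p) 0 with h0 | h0
    · exact hp.ne_zero (by rw [h0, map_zero])
    · exact hp.not_isUnit ((isUnit_iff_ne_zero.2 h0).map MvPolynomial.C)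

theorem totalDegree_pderiv_lt {p : A2} {i : Fin 2} (h : MvPolynomial.pderiv i p ≠ 0) :
    (MvPolynomial.pderiv i p).totalDegree < p.totalDegree := by
  classical
  have hkey : ∀ m ∈ (MvPolynomial.pderiv i p).support, (m.sum fun _ e => e) + 1 ≤ p.totalDegree := fun m hm => by
    have hm' : m + single i 1 ∈ p.support := MvPolynomial.mem_support_iff.2 fun h0 => by
      rw [MvPolynomial.mem_support_iff, MvPolynomial.coeff_pderiv, h0, zero_mul] at hm
      exact hm rfl
    have := MvPolynomial.le_totalDegree hm'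
    rwa [Finsupp.sum_add_index' (fun _ => rfl) (fun _ _ _ => rfl), Finsupp.sum_single_index rfl] at this
  obtain ⟨m, hm⟩ := Finset.nonempty_iff_ne_empty.2 (fun he => h (MvPolynomial.support_eq_empty.1 he))
  refine (Finset.sup_lt_iff ?_).2 fun m hm => ?_
  · have := hkey m hm
    exact Nat.lt_of_lt_of_le (Nat.succ_pos _) this
  · exact Nat.lt_of_succ_le (hkey m hm)

/-- The contraction of a smooth branch through an irreducible curve is that curve. -/
theorem dvd_of_dvd_tau (a : Fin 2 → k) {L : P} (h0 : cst L = 0) (hl : ∃ i, lin i L ≠ 0) {p q : A2}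
    (hp : Irreducible p) (hLp : L ∣ tau a p) (hLq : L ∣ tau a q) : p ∣ q := by
  have hL := prime_of_lin h0 hl
  haveI : (Ideal.span ({L} : Set P)).IsPrime := (Ideal.span_singleton_prime hL.ne_zero).2 hL
  set I : Ideal A2 := (Ideal.span ({L} : Set P)).comap (tau a)
  haveI hI : I.IsPrime := inferInstanceAs ((Ideal.span ({L} : Set P)).comap (tau a)).IsPrime
  haveI hpp : (Ideal.span ({p} : Set A2)).IsPrime := (Ideal.span_singleton_prime hp.ne_zero).2 hp.prime
  haveI hm : (RingHom.ker (MvPolynomial.eval a)).IsPrime := RingHom.ker_isPrime _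
  have hpI : Ideal.span ({p} : Set A2) ≤ I := by
    rw [Ideal.span_singleton_le_iff_mem]
    exact Ideal.mem_span_singleton.2 hLp
  have hIm : I < RingHom.ker (MvPolynomial.eval a) := by
    refine lt_of_le_of_ne (fun x hx => ?_) fun he => ?_
    · obtain ⟨c, hc⟩ := Ideal.mem_span_singleton.1 (show tau a x ∈ Ideal.span ({L} : Set P) from hx)
      rw [RingHom.mem_ker, ← constantCoeff_tau, hc, map_mul, h0, zero_mul]
    · have hX : ∀ j, L ∣ (MvPowerSeries.X j : P) := fun j => by
        have hmem : (MvPolynomial.X j - MvPolynomial.C (a j) : A2) ∈ I := by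
          rw [he, RingHom.mem_ker]
          simp
        have := Ideal.mem_span_singleton.1 (show tau a _ ∈ Ideal.span ({L} : Set P) from hmem)
        rwa [map_sub, tau_X, tau_C, add_sub_cancel_right] at this
      obtain ⟨c, hc⟩ := hX 0
      obtain ⟨d, hd⟩ := hX 1
      have e00 := congrArg (lin 0) hc
      have e10 := congrArg (lin 1) hc
      have e01 := congrArg (lin 0) hd
      have e11 := congrArg (lin 1) hd
      simp [lin_mul, h0] at e00 e10 e01 e11
      obtain ⟨i, hi⟩ := hl
      fin_cases i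
      · rcases e01 with h | h
        · rw [h, zero_mul] at e11; exact one_ne_zero e11
        · exact hi h
      · rcases e10 with h | h
        · rw [h, zero_mul] at e00; exact one_ne_zero e00
        · exact hi h
  by_contra hdvd
  have hlt : Ideal.span ({p} : Set A2) < I := lt_of_le_of_ne hpI fun he => hdvd
    (Ideal.mem_span_singleton.1 (he ▸ (Ideal.mem_span_singleton.2 hLq : tau a q ∈ Ideal.span ({L} : Set P))))
  have hbot : (⊥ : Ideal A2) < Ideal.span ({p} : Set A2) := bot_lt_iff_ne_bot.2 (by simpa using hp.ne_zero)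
  let c : LTSeries (PrimeSpectrum A2) :=
    ⟨3, ![⟨⊥, Ideal.isPrime_bot⟩, ⟨_, hpp⟩, ⟨_, hI⟩, ⟨_, hm⟩], fun i => by
      fin_cases i
      · exact hbot
      · exact hlt
      · exact hIm⟩
  have h3 : ((3 : ℕ) : WithBot ℕ∞) ≤ ringKrullDim A2 := Order.LTSeries.length_le_krullDim c
  rw [MvPolynomial.ringKrullDim_of_isNoetherianRing, ringKrullDim_eq_zero_of_field, zero_add,
    Nat.card_eq_fintype_card, Fintype.card_fin] at h3
  exact absurd h3 (by norm_cast)

/-- A polynomial which is a unit times the square of a smooth branch is, near the point, a square. -/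
theorem exists_sq_factor [PerfectField k] (a : Fin 2 → k) {f : A2} {L u : P} (h0 : cst L = 0)
    (hl : ∃ i, lin i L ≠ 0) (hu : cst u ≠ 0) (hf : tau a f = u * L ^ 2) :
    ∃ g h : A2, f = g ^ 2 * h ∧ MvPolynomial.eval a h ≠ 0 ∧ MvPolynomial.eval a g = 0 ∧
      ∃ i, MvPolynomial.eval a (MvPolynomial.pderiv i g) ≠ 0 := by
  haveI : IsDomain P := NoZeroDivisors.to_isDomain _
  have hL := prime_of_lin h0 hl
  have hu' : IsUnit u := MvPowerSeries.isUnit_iff_constantCoeff.2 (isUnit_iff_ne_zero.2 hu)
  have hf0 : f ≠ 0 := fun h => by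
    rw [h, map_zero] at hf
    exact mul_ne_zero hu'.ne_zero (pow_ne_zero 2 hL.ne_zero) hf.symm
  obtain ⟨s, hs, hsf⟩ := WfDvdMonoid.exists_factors f hf0
  obtain ⟨w, hw⟩ := hsf
  have hdvd : L ∣ (s.map (tau a)).prod := by
    have h1 : L ∣ tau a f := by rw [hf]; exact Dvd.dvd.mul_left (dvd_pow_self L two_ne_zero) u
    rw [← hw, map_mul] at h1
    refine (hL.dvd_mul.1 h1).elim (fun h => by rwa [map_multiset_prod] at h) fun h => absurd ?_ hL.not_unit
    exact isUnit_of_dvd_unit h (w.isUnit.map (tau a))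
  obtain ⟨z, hz, hLz⟩ := hL.exists_mem_multiset_dvd hdvd
  obtain ⟨p, hps, rfl⟩ := Multiset.mem_map.1 hz
  have hp := hs p hps
  obtain ⟨f1, rfl⟩ : p ∣ f := hw ▸ Dvd.dvd.mul_right (Multiset.dvd_prod hps) _
  obtain ⟨v, hv⟩ := hLz
  have hvL : ¬ L ∣ v := fun ⟨v', hv'⟩ => by
    obtain ⟨i, hi⟩ := exists_pderiv_ne_zero hp
    have hL' : L ∣ tau a (MvPolynomial.pderiv i p) := by
      rw [← pderiv_tau, hv, hv', Derivation.leibniz, Derivation.leibniz, smul_eq_mul, smul_eq_mul,
        smul_eq_mul, smul_eq_mul]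
      exact dvd_add (dvd_mul_right _ _) (Dvd.dvd.mul_right (dvd_mul_right _ _) _)
    obtain ⟨c, hc⟩ := dvd_of_dvd_tau a h0 hl hp ⟨v, hv⟩ hL'
    have hdeg := totalDegree_pderiv_lt hi
    rw [hc] at hdeg hi
    rw [MvPolynomial.totalDegree_mul_of_isDomain hp.ne_zero (right_ne_zero_of_mul hi)] at hdeg
    omega
  have h2 : v * tau a f1 = u * L := by
    refine mul_left_cancel₀ hL.ne_zero ?_
    rw [← mul_assoc, ← hv, ← map_mul, hf]
    ring
  have hLf1 : L ∣ tau a f1 := ((hL.dvd_mul).1 (h2 ▸ dvd_mul_left L u)).resolve_left hvL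
  obtain ⟨h, rfl⟩ := dvd_of_dvd_tau a h0 hl hp ⟨v, hv⟩ hLf1
  have h3 : v * v * tau a h = u := by
    refine mul_left_cancel₀ hL.ne_zero ?_
    rw [map_mul, hv] at h2
    linear_combination h2
  have hne : cst v * cst v * cst (tau a h) ≠ 0 := by rwa [← map_mul, ← map_mul, h3]
  refine ⟨p, h, by ring, ?_, ?_, ?_⟩
  · rw [← constantCoeff_tau]
    exact right_ne_zero_of_mul hne
  · rw [← constantCoeff_tau, hv, map_mul, h0, zero_mul]
  · obtain ⟨i, hi⟩ := hl
    refine ⟨i, ?_⟩
    rw [← lin_tau, hv, lin_mul, h0, zero_mul, zero_add]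
    exact mul_ne_zero (left_ne_zero_of_mul (left_ne_zero_of_mul hne)) hi

end Groth.Agent.ZH85.PlaneSing
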