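import Groth.Agent.ZH85.PlaneSing.Poly

/-!
# Normal form of a double point of a plane germ
-/

set_option autoImplicit false
set_option linter.style.haveILetI false

universe u

open Finsupp IsLocalRing

namespace Groth.Agent.ZH85.PlaneSing

variable {k : Type u} [Field k]

local notation "P" => MvPowerSeries (Fin 2) k
local notation "cst" => MvPowerSeries.constantCoeff (σ := Fin 2) (R := k)

/-- The second partial derivative at the origin. -/
noncomputable def hess (i j : Fin 2) (F : P) : k :=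
  cst (MvPowerSeries.pderiv k i (MvPowerSeries.pderiv k j F))

theorem hess_mul (i j : Fin 2) (F G : P) :
    hess i j (F * G) = cst F * hess i j G + lin i F * lin j G + lin j F * lin i G + cst G * hess i j F := by
  simp only [hess, Derivation.leibniz, map_add, smul_eq_mul, map_mul, lin_eq]
  ring

@[simp] theorem hess_add (i j : Fin 2) (F G : P) : hess i j (F + G) = hess i j F + hess i j G := by
  simp [hess]

@[simp] theorem hess_sub (i j : Fin 2) (F G : P) : hess i j (F - G) = hess i j F - hess i j G := by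
  simp [hess]

@[simp] theorem hess_X (i j l : Fin 2) : hess i j (MvPowerSeries.X l : P) = 0 := by
  rw [hess, MvPowerSeries.pderiv_X]
  by_cases h : j = l
  · subst h; simp
  · simp [h, Ne.symm h]

theorem hess_tau (a : Fin 2 → k) (i j : Fin 2) (f : MvPolynomial (Fin 2) k) :
    hess i j (tau a f) = MvPolynomial.eval a (MvPolynomial.pderiv i (MvPolynomial.pderiv j f)) := by
  rw [hess, pderiv_tau, pderiv_tau, constantCoeff_tau]

theorem exists_quad {F : P} (h0 : cst F = 0) (hl : ∀ i, lin i F = 0) :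
    ∃ a b e : P, F = MvPowerSeries.X 0 ^ 2 * a + MvPowerSeries.X 0 * MvPowerSeries.X 1 * b +
      MvPowerSeries.X 1 ^ 2 * e := by
  obtain ⟨G, H, h, hG, hH⟩ := exists_decomp F
  obtain ⟨G0, G1, hg, -, -⟩ := exists_decomp G
  obtain ⟨H0, H1, hh, -, -⟩ := exists_decomp H
  rw [hG.trans (hl 0), map_zero, zero_add] at hg
  rw [hH.trans (hl 1), map_zero, zero_add] at hh
  refine ⟨G0, G1 + H0, H1, ?_⟩
  rw [h, h0, map_zero, hg, hh]
  ring

theorem hess_quad (a b e : P) :
    hess 0 0 (MvPowerSeries.X 0 ^ 2 * a + MvPowerSeries.X 0 * MvPowerSeries.X 1 * b +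
      MvPowerSeries.X 1 ^ 2 * e) = 2 * cst a ∧
    hess 0 1 (MvPowerSeries.X 0 ^ 2 * a + MvPowerSeries.X 0 * MvPowerSeries.X 1 * b +
      MvPowerSeries.X 1 ^ 2 * e) = cst b ∧
    hess 1 1 (MvPowerSeries.X 0 ^ 2 * a + MvPowerSeries.X 0 * MvPowerSeries.X 1 * b +
      MvPowerSeries.X 1 ^ 2 * e) = 2 * cst e := by
  refine ⟨?_, ?_, ?_⟩ <;> simp [hess_mul, lin_mul, pow_two] <;> ring

variable [IsAlgClosed k]

/-- After a change of coordinates the coefficient of `X₁²` does not vanish. -/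
theorem exists_good {F : P} (h0 : cst F = 0) (hl : ∀ i, lin i F = 0)
    (hne : ∃ i j, hess i j F ≠ 0) :
    ∃ (φ : P ≃ₐ[k] P) (G H : P), φ F = MvPowerSeries.X 0 * G + MvPowerSeries.X 1 ^ 2 * H ∧
      cst G = 0 ∧ cst H ≠ 0 := by
  obtain ⟨a, b, e, rfl⟩ := exists_quad h0 hl
  obtain ⟨h00, h01, h11⟩ := hess_quad a b e
  by_cases he : cst e = 0
  swap
  · exact ⟨AlgEquiv.refl, MvPowerSeries.X 0 * a + MvPowerSeries.X 1 * b, e, by
      rw [AlgEquiv.coe_refl, id]; ring, by simp, he⟩
  have hcst : ∀ (φ : P ≃ₐ[k] P) (F : P), cst (φ (MvPowerSeries.X 0)) = 0 → cst (φ (MvPowerSeries.X 1)) = 0 →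
      cst (φ F) = cst F := fun φ F hA hB => by
    obtain ⟨G, H, h, -, -⟩ := exists_decomp F
    conv_lhs => rw [h]
    rw [map_add φ, map_add φ, map_mul φ, map_mul φ,
      show φ (MvPowerSeries.C (cst F)) = MvPowerSeries.C (cst F) by rw [ArSingLib.mv_C_eq, AlgEquiv.commutes]]
    simp [hA, hB]
  by_cases ha : cst a = 0
  swap
  · obtain ⟨φ, hA, hB⟩ := exists_aut (MvPowerSeries.X 1 : P) (MvPowerSeries.X 0) (by simp) (by simp) (by simp)
    refine ⟨φ, MvPowerSeries.X 1 * φ b + MvPowerSeries.X 0 * φ e, φ a, ?_, by simp, ?_⟩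
    · simp only [map_add, map_mul, map_pow, hA, hB]; ring
    · rwa [hcst φ a (by simp [hA]) (by simp [hB])]
  by_cases hb : cst b = 0
  · exfalso
    have hsym : hess 1 0 (MvPowerSeries.X 0 ^ 2 * a + MvPowerSeries.X 0 * MvPowerSeries.X 1 * b +
      MvPowerSeries.X 1 ^ 2 * e) = cst b := by simp [hess_mul, lin_mul, pow_two]
    obtain ⟨i, j, hij⟩ := hne
    apply hij
    fin_cases i <;> fin_cases j
    · exact h00.trans (by rw [ha, mul_zero])
    · exact h01.trans hb
    · exact hsym.trans hb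
    · exact h11.trans (by rw [he, mul_zero])
  · obtain ⟨φ, hA, hB⟩ := exists_aut (MvPowerSeries.X 0 + MvPowerSeries.X 1 : P) (MvPowerSeries.X 1)
      (by simp) (by simp) (by simp)
    refine ⟨φ, (MvPowerSeries.X 0 + 2 * MvPowerSeries.X 1) * φ a + MvPowerSeries.X 1 * φ b,
      φ a + φ b + φ e, ?_, by simp, ?_⟩
    · simp only [map_add, map_mul, map_pow, hA, hB]; ring
    · have hs : cst (φ (MvPowerSeries.X 0)) = 0 := by simp [hA]
      have ht : cst (φ (MvPowerSeries.X 1)) = 0 := by simp [hB]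
      simpa [hcst φ _ hs ht, ha, he] using hb

/-- Substitution of `X₀` for the variable. -/
noncomputable def xi : PowerSeries k →ₐ[k] P :=
  PowerSeries.substAlgHom (PowerSeries.HasSubst.of_constantCoeff_zero
    (MvPowerSeries.constantCoeff_X (0 : Fin 2) : MvPowerSeries.constantCoeff
      (MvPowerSeries.X (0 : Fin 2) : MvPowerSeries (Fin 2) k) = 0))

omit [IsAlgClosed k] in
theorem xi_X : xi (k := k) PowerSeries.X = MvPowerSeries.X 0 := by
  simp [xi, PowerSeries.substAlgHom_X]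

omit [IsAlgClosed k] in
theorem xi_eq (f : PowerSeries k) : ∃ g : P,
    xi f = MvPowerSeries.C (PowerSeries.constantCoeff f) + MvPowerSeries.X 0 * g := by
  have hC : (PowerSeries.C (PowerSeries.constantCoeff f) : PowerSeries k) =
      algebraMap k (PowerSeries k) (PowerSeries.constantCoeff f) := by
    simp [PowerSeries.algebraMap_apply]
  refine ⟨xi (PowerSeries.mk fun p => PowerSeries.coeff (p + 1) f), ?_⟩
  conv_lhs => rw [PowerSeries.eq_X_mul_shift_add_const f, hC]
  rw [map_add, map_mul, xi_X, AlgHom.commutes, ← ArSingLib.mv_C_eq]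
  ring

omit [IsAlgClosed k] in
/-- The relation of `X₁²` over `k⟦X₀⟧` modulo the germ. -/
theorem exists_relation {F G H : P} (hF : F = MvPowerSeries.X 0 * G + MvPowerSeries.X 1 ^ 2 * H)
    (hH : cst H ≠ 0) : ∃ (a b : PowerSeries k) (u : P),
      MvPowerSeries.X 1 ^ 2 - xi a - xi b * MvPowerSeries.X 1 = u * F := by
  haveI : Nontrivial (Germ F) := Ideal.Quotient.nontrivial_iff.2 fun h => by
    rw [Ideal.span_singleton_eq_top, MvPowerSeries.isUnit_iff_constantCoeff, hF] at h
    simp at h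
  haveI : IsLocalRing (Germ F) := IsLocalRing.of_surjective' (Ideal.Quotient.mk _) Ideal.Quotient.mk_surjective
  obtain ⟨Hi, hHi⟩ := (MvPowerSeries.isUnit_iff_constantCoeff.2 (isUnit_iff_ne_zero.2 hH)).exists_right_inv
  let mk : P →ₐ[k] Germ F := Ideal.Quotient.mkₐ k _
  have hy : mk (MvPowerSeries.X 1) ^ 2 = - (mk (MvPowerSeries.X 0) * mk (G * Hi)) := by
    have h0 : mk F = 0 := Ideal.Quotient.eq_zero_iff_mem.2 (Ideal.mem_span_singleton_self F)
    have h1 : mk (H * Hi) = 1 := by rw [hHi, map_one]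
    have h2 : mk F = mk (MvPowerSeries.X 0) * mk G + mk (MvPowerSeries.X 1) ^ 2 * mk H := by
      rw [← map_mul, ← map_pow, ← map_mul, ← map_add, ← hF]
    rw [map_mul] at h1 ⊢
    linear_combination (mk Hi) * h0 - mk Hi * h2 - mk (MvPowerSeries.X 1) ^ 2 * h1
  have hstep : ∀ z : Germ F, ∃ (c d : k) (z' : Germ F),
      z = algebraMap k (Germ F) c + algebraMap k (Germ F) d * mk (MvPowerSeries.X 1) +
        mk (MvPowerSeries.X 0) * z' := fun z => by
    obtain ⟨Z, rfl⟩ := Ideal.Quotient.mk_surjective z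
    obtain ⟨Z0, Z1, h, -, -⟩ := exists_decomp Z
    obtain ⟨W0, W1, h', -, -⟩ := exists_decomp Z1
    refine ⟨cst Z, cst Z1, mk Z0 + mk (MvPowerSeries.X 1) * mk W0 - mk (G * Hi) * mk W1, ?_⟩
    show mk Z = _
    conv_lhs => rw [h, h']
    simp only [map_add, map_mul, ArSingLib.mv_C_eq, AlgHom.commutes]
    rw [map_mul mk G Hi] at hy
    linear_combination (mk W1) * hy
  choose c d next hnext using hstep
  let q : ℕ → Germ F := fun n => next^[n] (mk (MvPowerSeries.X 1 ^ 2))
  let f : ℕ → PowerSeries k := fun n => PowerSeries.mk fun i => c (q (n + i))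
  let g : ℕ → PowerSeries k := fun n => PowerSeries.mk fun i => d (q (n + i))
  have hsh : ∀ (n : ℕ) (e : Germ F → k),
      (PowerSeries.mk fun i => e (q (n + i))) =
        PowerSeries.X * (PowerSeries.mk fun i => e (q (n + 1 + i))) +
          algebraMap k (PowerSeries k) (e (q n)) := fun n e => by
    rw [ArSingLib.mk_eq_shift]
    simp [add_assoc, add_comm 1]
  let D : ℕ → Germ F := fun n =>
    q n - (mk (xi (f n)) + mk (xi (g n)) * mk (MvPowerSeries.X 1))
  have hD : ∀ n, D n = mk (MvPowerSeries.X 0) * D (n + 1) := by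
    intro n
    have hq : q (n + 1) = next (q n) := Function.iterate_succ_apply' _ _ _
    simp only [D, f, g]
    rw [hsh n c, hsh n d]
    simp only [map_add, map_mul, AlgHom.commutes, xi_X]
    rw [hq]
    linear_combination hnext (q n)
  have hn : ∀ n, D 0 = mk (MvPowerSeries.X 0) ^ n * D n := by
    intro n
    induction n with
    | zero => simp
    | succ n ih => rw [ih, hD n, pow_succ, mul_assoc]
  have hX0 : mk (MvPowerSeries.X 0) ∈ maximalIdeal (Germ F) := by
    intro hu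
    obtain ⟨v, hv⟩ := hu.exists_right_inv
    obtain ⟨V, rfl⟩ := Ideal.Quotient.mk_surjective v
    change mk (MvPowerSeries.X 0) * mk V = 1 at hv
    rw [← map_mul, ← map_one mk] at hv
    obtain ⟨w, hw⟩ := Ideal.mem_span_singleton'.1 (Ideal.Quotient.eq.1 hv)
    have := congrArg cst hw
    simp [hF] at this
  have hz : D 0 = 0 := ArSingLib.eq_of_forall_mem (maximalIdeal (Germ F)) fun n => by
    rw [sub_zero, hn n]
    exact Ideal.mul_mem_right _ _ (Ideal.pow_mem_pow hX0 n)
  refine ⟨f 0, g 0, ?_⟩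
  have hmem : MvPowerSeries.X 1 ^ 2 - xi (f 0) - xi (g 0) * MvPowerSeries.X 1 ∈ Ideal.span ({F} : Set P) := by
    rw [← Ideal.Quotient.eq_zero_iff_mem]
    show mk _ = 0
    rw [map_sub, map_sub, map_mul]
    have hz' : mk (MvPowerSeries.X 1 ^ 2) - (mk (xi (f 0)) + mk (xi (g 0)) * mk (MvPowerSeries.X 1)) = 0 := hz
    linear_combination hz'
  obtain ⟨u, hu⟩ := Ideal.mem_span_singleton'.1 hmem
  exact ⟨u, hu.symm⟩

/-- **Normal form of double points.** -/
theorem exists_normalForm (h2 : (2 : k) ≠ 0) {F : P} (h0 : cst F = 0) (hl : ∀ i, lin i F = 0)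
    (hne : ∃ i j, hess i j F ≠ 0) :
    (∃ n : ℕ, Nonempty (Germ F ≃ₐ[k] ArSing.ring k n)) ∨
      Nonempty (Germ F ≃ₐ[k] Germ ((MvPowerSeries.X 1 : P) ^ 2)) := by
  obtain ⟨φ, G, H, hφ, hG, hH⟩ := exists_good h0 hl hne
  obtain ⟨e0⟩ := nonempty_germ_equiv φ (Associated.refl (φ F))
  obtain ⟨a, b, u, hab⟩ := exists_relation hφ hH
  obtain ⟨a', ha'⟩ := xi_eq a
  obtain ⟨b', hb'⟩ := xi_eq b
  have hF0 : cst (φ F) = 0 := by simp [hφ]
  have ha0 : PowerSeries.constantCoeff a = 0 := by
    have := congrArg cst hab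
    simpa [ha', hb', hF0] using this
  have hb0 : PowerSeries.constantCoeff b = 0 := by
    have := congrArg (lin 1) hab
    simpa [ha', hb', hφ, lin_mul, pow_two, hG, ha0] using this
  have hax : axis u * axis H = 1 := by
    have h := congrArg axis hab
    have hX : axis (MvPowerSeries.X 0 : P) = 0 := axis_eq_zero_iff.2 dvd_rfl
    rw [hφ, ha', hb', ha0, hb0] at h
    simp only [map_sub, map_mul, map_add, map_pow, map_zero, hX, zero_mul, add_zero, sub_zero, zero_add,
      axis_X_one] at h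
    refine mul_left_cancel₀ (pow_ne_zero 2 PowerSeries.X_ne_zero) ?_
    linear_combination -h
  have hu : cst u ≠ 0 := fun h => by
    have := congrArg PowerSeries.constantCoeff hax
    rw [map_mul, map_one, constantCoeff_axis, h, zero_mul] at this
    exact zero_ne_one this
  let b2 : PowerSeries k := algebraMap k (PowerSeries k) 2⁻¹ * b
  let c : PowerSeries k := a + b2 ^ 2
  let z : P := MvPowerSeries.X 1 - xi b2
  obtain ⟨b2', hb2'⟩ := xi_eq b2
  have hb20 : PowerSeries.constantCoeff b2 = 0 := by simp [b2, hb0]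
  obtain ⟨ψ, hψ0, hψ1⟩ := exists_aut (MvPowerSeries.X 0) z (by simp) (by simp [z, hb2', hb20])
    (by simp [z, hb2', hb20, lin_mul])
  have hψxi : ∀ g, ψ (xi g) = xi g := fun g => by
    refine DFunLike.congr_fun (ArSingLib.ps_hom_ext (PSLib.vars 2 k) (φ := ψ.toAlgHom.comp xi) (ψ := xi) ?_ ?_) g
    · show ψ (xi PowerSeries.X) = xi PowerSeries.X
      rw [xi_X, hψ0]
    · show ψ (xi PowerSeries.X) ∈ _
      rw [xi_X, hψ0]
      exact PSLib.mem_vars_iff.2 (by simp)
  have hkey : ψ (MvPowerSeries.X 1 ^ 2 - xi c) = u * φ F := by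
    rw [map_sub, map_pow, hψ1, hψxi, ← hab]
    have hb2b : xi b = 2 * xi b2 := by
      rw [← map_ofNat (xi (k := k)) 2, ← map_mul]
      congr 1
      rw [← map_ofNat (algebraMap k (PowerSeries k)) 2, ← mul_assoc, ← map_mul, mul_inv_cancel₀ h2, map_one, one_mul]
    simp only [z, c, map_add, map_pow]
    rw [hb2b]
    ring
  obtain ⟨e1⟩ := nonempty_germ_equiv ψ (F := MvPowerSeries.X 1 ^ 2 - xi c) (G := φ F) (by
    rw [hkey]
    exact associated_unit_mul_left _ _ (MvPowerSeries.isUnit_iff_constantCoeff.2 (isUnit_iff_ne_zero.2 hu)))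
  by_cases hc : c = 0
  · right
    rw [hc, map_zero, sub_zero] at e1
    exact ⟨e0.trans e1.symm⟩
  left
  have hc0 : PowerSeries.constantCoeff c = 0 := by simp [c, ha0, hb20]
  obtain ⟨m, v, hv⟩ := IsDiscreteValuationRing.eq_unit_mul_pow_irreducible hc PowerSeries.X_irreducible
  rcases Nat.eq_zero_or_pos m with rfl | hm
  · rw [hv, pow_zero, mul_one] at hc0
    exact absurd hc0 (v.isUnit.map PowerSeries.constantCoeff).ne_zero
  obtain ⟨n, rfl⟩ := Nat.exists_eq_add_of_le hm
  have hxv : cst (xi (v : PowerSeries k)) ≠ 0 := ((v.isUnit.map xi).map cst).ne_zero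
  obtain ⟨w, hw0, hw⟩ := exists_sqrt h2 hxv
  obtain ⟨wi, hwi⟩ := (MvPowerSeries.isUnit_iff_constantCoeff.2 (isUnit_iff_ne_zero.2 hw0)).exists_right_inv
  have hwi0 : cst wi ≠ 0 := fun h => by
    have := congrArg cst hwi
    simp [h] at this
  obtain ⟨χ, hχ0, hχ1⟩ := exists_aut (MvPowerSeries.X 0) (MvPowerSeries.X 1 * wi) (by simp) (by simp)
    (by simpa [lin_mul] using hwi0)
  obtain ⟨e2⟩ := nonempty_germ_equiv χ (F := ArSing.eqn k n) (G := MvPowerSeries.X 1 ^ 2 - xi c) (by
    have h : (MvPowerSeries.X 1 ^ 2 - xi c : P) = χ (ArSing.eqn k n) * w ^ 2 := by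
      rw [ArSing.eqn, map_sub, map_pow, map_pow, hχ0, hχ1, hv, map_mul, map_pow, xi_X, ← hw,
        add_comm n 1]
      linear_combination (-(MvPowerSeries.X 1 : P) ^ 2 * (w * wi + 1)) * hwi
    rw [h]
    exact (associated_mul_unit_left _ _
      ((MvPowerSeries.isUnit_iff_constantCoeff.2 (isUnit_iff_ne_zero.2 hw0)).pow 2)).symm)
  exact ⟨n, ⟨e0.trans (e1.symm.trans e2.symm)⟩⟩

omit [IsAlgClosed k] in
/-- A germ of multiplicity three has no double relation between coordinates. -/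
theorem not_equiv_of_flat (h2 : (2 : k) ≠ 0) {F G : P} (hF : cst F = 0) (hlF : ∀ i, lin i F = 0)
    (hhF : ∀ i j, hess i j F = 0) (hG : G = MvPowerSeries.X 1 ^ 2 ∨ ∃ n, G = ArSing.eqn k n) :
    ¬ Nonempty (Germ F ≃ₐ[k] Germ G) := by
  rintro ⟨e⟩
  have hG0 : cst G = 0 := by
    rcases hG with rfl | ⟨n, rfl⟩ <;> simp [ArSing.eqn]
  obtain ⟨A, B, hA0, hB0, hA, hB, hspan⟩ := exists_spanning hF hG0 e
  have hdet : lin 0 A * lin 1 B - lin 1 A * lin 0 B ≠ 0 := by
    obtain ⟨p, q, r, h0⟩ := hspan 0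
    obtain ⟨p', q', r', h1⟩ := hspan 1
    have e00 := congrArg (lin 0) h0
    have e10 := congrArg (lin 1) h0
    have e01 := congrArg (lin 0) h1
    have e11 := congrArg (lin 1) h1
    simp [lin_mul, hA0, hB0, hF, hlF] at e00 e10 e01 e11
    intro hd
    have : (1 : k) = (cst p * cst q' - cst q * cst p') * (lin 0 A * lin 1 B - lin 1 A * lin 0 B) := by
      linear_combination (cst p' * lin 1 A + cst q' * lin 1 B) * e00 + e11 -
        (cst p' * lin 0 A + cst q' * lin 0 B) * e10
    rw [hd, mul_zero] at this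
    exact one_ne_zero this
  obtain ⟨R, hR, hRe⟩ : ∃ R : P, F ∣ R ∧ (G = MvPowerSeries.X 1 ^ 2 ∧ R = B ^ 2 ∨
      ∃ n, G = ArSing.eqn k n ∧ R = B ^ 2 - A ^ (n + 1)) := by
    rcases hG with rfl | ⟨n, rfl⟩
    · refine ⟨B ^ 2, ?_, Or.inl ⟨rfl, rfl⟩⟩
      rw [← Ideal.mem_span_singleton, ← Ideal.Quotient.eq_zero_iff_mem]
      apply e.injective
      rw [map_pow, map_pow, hB, map_zero, ← map_pow, Ideal.Quotient.eq_zero_iff_mem]
      exact Ideal.mem_span_singleton_self _
    · refine ⟨B ^ 2 - A ^ (n + 1), ?_, Or.inr ⟨n, rfl, rfl⟩⟩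
      rw [← Ideal.mem_span_singleton, ← Ideal.Quotient.eq_zero_iff_mem]
      apply e.injective
      rw [map_sub, map_sub, map_pow, map_pow, map_pow, map_pow, hA, hB, map_zero, ← map_pow, ← map_pow,
        ← map_sub, Ideal.Quotient.eq_zero_iff_mem]
      exact Ideal.mem_span_singleton_self _
  obtain ⟨c, rfl⟩ := hR
  have hlR : ∀ i, lin i (F * c) = 0 := fun i => by simp [lin_mul, hF, hlF]
  have hhR : ∀ i j, hess i j (F * c) = 0 := fun i j => by simp [hess_mul, hF, hlF, hhF]
  have hsq : ∀ (D : P), cst D = 0 → ∀ i j, hess i j (D ^ 2) = lin i D * lin j D + lin j D * lin i D :=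
    fun D hD i j => by rw [pow_two, hess_mul, hD]; ring
  have hB' : (∀ i, lin i B * lin i B = 0) → False := fun h => hdet (by
    rw [mul_self_eq_zero.1 (h 0), mul_self_eq_zero.1 (h 1)]; ring)
  rcases hRe with ⟨-, h⟩ | ⟨n, -, h⟩
  · refine hB' fun i => ?_
    have := (congrArg (hess i i) h).symm.trans (hhR i i)
    rw [hsq B hB0] at this
    exact mul_left_cancel₀ h2 (by linear_combination this)
  match n, h with
  | 0, h =>
    have hA1 : ∀ i, lin i A = 0 := fun i => by
      have := (congrArg (lin i) h).symm.trans (hlR i)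
      simpa [pow_two, lin_mul, hB0] using this
    exact hdet (by rw [hA1 0, hA1 1]; ring)
  | 1, h =>
    have hq : ∀ i j, lin i B * lin j B + lin j B * lin i B = lin i A * lin j A + lin j A * lin i A := fun i j => by
      have := (congrArg (hess i j) h).symm.trans (hhR i j)
      rw [hess_sub, hsq B hB0, hsq A hA0] at this
      exact sub_eq_zero.1 this
    refine hdet ?_
    have h00 := hq 0 0
    have h01 := hq 0 1
    have h11 := hq 1 1
    have hd2 : (2 * (lin 0 A * lin 1 B - lin 1 A * lin 0 B)) ^ 2 = 0 := by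
      linear_combination 2 * lin 0 A ^ 2 * h11 + 2 * lin 1 A ^ 2 * h00 - 4 * lin 0 A * lin 1 A * h01
    exact (mul_eq_zero.1 (sq_eq_zero_iff.1 hd2)).resolve_left h2
  | m + 2, h =>
    refine hB' fun i => ?_
    have := (congrArg (hess i i) h).symm.trans (hhR i i)
    have hA3 : hess i i (A ^ (m + 2 + 1)) = 0 := by
      rw [pow_succ, pow_succ, hess_mul, lin_mul, map_mul, hA0]
      simp [hess_mul, lin_mul, hA0]
    rw [hess_sub, hsq B hB0, hA3, sub_zero] at this
    exact mul_left_cancel₀ h2 (by linear_combination this)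

end Groth.Agent.ZH85.PlaneSing
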